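import Cfsg.Prelude.Def_Chevalley
import Mathlib

/-! A ring isomorphism of fields induces an isomorphism of Chevalley groups. -/

set_option autoImplicit false

namespace Cfsg.Agent.PrimeGraphG24

open Cfsg.Lie Matrix

variable (D : ChevalleyDatum) {F F' : Type*} [Field F] [Field F']

theorem xMat_map (σ : F →+* F') (r : Fin D.nroots) (t : F) :
    (D.xMat F r t).map σ = D.xMat F' r (σ t) := by
  ext row col
  simp only [Matrix.map_apply, ChevalleyDatum.xMat, Matrix.of_apply]
  rcases col with i | s
  · rcases row with i' | u <;> dsimp only <;> split_ifs <;> simp [map_intCast]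
  · dsimp only
    split_ifs with h1 h2
    · rcases row with i' | u
      · simp
      · simp only; split_ifs <;> simp
    · rcases row with i' | u
      · simp [map_intCast]
      · simp only; split_ifs <;> simp
    · rcases row with i' | u
      · simp
      · simp only [map_add, map_list_sum, List.map_map]
        congr 1
        · split_ifs <;> simp
        · congr 1
          exact List.map_congr_left fun x _ => by simp [map_intCast]

theorem group_map_le (σ : F →+* F') :
    (D.group F).map (Matrix.GeneralLinearGroup.map σ) ≤ D.group F' := by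
  rw [ChevalleyDatum.group, MonoidHom.map_closure, Subgroup.closure_le]
  rintro _ ⟨g, ⟨r, t, hg⟩, rfl⟩
  exact Subgroup.subset_closure ⟨r, σ t, by rw [← xMat_map, ← hg]; rfl⟩

/-- The induced isomorphism. -/
theorem nonempty_group_equiv (σ : F ≃+* F') : Nonempty (D.group F ≃* D.group F') := by
  let e : GL D.Idx F →* GL D.Idx F' := Matrix.GeneralLinearGroup.map (σ : F →+* F')
  let e' : GL D.Idx F' →* GL D.Idx F := Matrix.GeneralLinearGroup.map (σ.symm : F' →+* F)
  refine ⟨
    { toFun := fun g => ⟨e g.1, group_map_le D (σ : F →+* F') ⟨g.1, g.2, rfl⟩⟩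
      invFun := fun g => ⟨e' g.1, group_map_le D (σ.symm : F' →+* F) ⟨g.1, g.2, rfl⟩⟩
      left_inv := fun g => ?_
      right_inv := fun g => ?_
      map_mul' := fun g h => Subtype.ext (map_mul e g.1 h.1) }⟩
  · refine Subtype.ext (Units.ext ?_)
    ext i j
    simp [e, e', Matrix.GeneralLinearGroup.map_apply]
  · refine Subtype.ext (Units.ext ?_)
    ext i j
    simp [e, e', Matrix.GeneralLinearGroup.map_apply]

end Cfsg.Agent.PrimeGraphG24
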