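import Cfsg.Agent.Coset.G24.Field

/-! Certificates for the six-dimensional representation of G2(4) over four elements (generated). -/

set_option autoImplicit false

namespace Cfsg.Agent.PrimeGraphG24

open CfsgLib.Coset.G24 (F4)

/-- The six generators, by rows. -/
def gens6 : List (List (List F4)) := [[[.o, .z, .z, .z, .z, .z],
  [.z, .o, .z, .z, .z, .z],
  [.z, .z, .o, .z, .z, .z],
  [.z, .z, .z, .o, .z, .z],
  [.v, .z, .z, .z, .o, .z],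
  [.z, .v, .z, .z, .z, .o]],
 [[.o, .o, .v, .w, .v, .z],
  [.v, .w, .z, .v, .z, .v],
  [.w, .v, .w, .z, .v, .w],
  [.v, .v, .z, .w, .z, .v],
  [.o, .z, .v, .v, .w, .o],
  [.z, .o, .v, .w, .v, .o]],
 [[.o, .z, .z, .z, .z, .z],
  [.z, .o, .z, .z, .z, .z],
  [.z, .w, .o, .z, .z, .z],
  [.z, .z, .z, .o, .z, .z],
  [.w, .z, .z, .w, .o, .z],
  [.z, .w, .z, .z, .z, .o]],
 [[.w, .w, .z, .z, .z, .z],
  [.o, .w, .z, .z, .z, .z],
  [.w, .w, .v, .v, .z, .z],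
  [.z, .w, .o, .v, .z, .z],
  [.w, .o, .w, .w, .w, .w],
  [.o, .w, .z, .w, .o, .w]],
 [[.o, .o, .z, .z, .z, .z],
  [.z, .o, .z, .z, .z, .z],
  [.z, .z, .o, .o, .z, .z],
  [.z, .z, .z, .o, .z, .z],
  [.o, .o, .z, .z, .o, .o],
  [.z, .o, .z, .z, .z, .o]],
 [[.o, .z, .z, .z, .z, .z],
  [.z, .o, .z, .z, .z, .z],
  [.z, .z, .o, .z, .z, .z],
  [.z, .z, .z, .o, .z, .z],
  [.w, .z, .z, .z, .o, .z],
  [.z, .w, .z, .z, .z, .o]]]

/-- A word of order 6. -/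
def w6 : List Nat := [4, 1, 2]

/-- Its matrix. -/
def m6 : List (List F4) := [[.v, .v, .v, .z, .v, .v],
  [.v, .v, .z, .v, .z, .v],
  [.z, .o, .w, .v, .v, .o],
  [.v, .w, .z, .w, .z, .v],
  [.z, .w, .v, .v, .w, .v],
  [.w, .o, .v, .z, .v, .w]]

/-- A word of order 10. -/
def w10 : List Nat := [3, 1, 0]

/-- Its matrix. -/
def m10 : List (List F4) := [[.z, .w, .o, .w, .o, .o],
  [.w, .o, .v, .v, .v, .o],
  [.w, .z, .z, .v, .v, .w],
  [.v, .o, .w, .z, .v, .o],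
  [.z, .o, .w, .o, .w, .o],
  [.z, .v, .o, .z, .z, .v]]

/-- A word of order 7. -/
def w7 : List Nat := [5, 3, 2, 4, 1, 0, 2, 1]

/-- Its matrix. -/
def m7 : List (List F4) := [[.v, .v, .v, .z, .v, .z],
  [.v, .w, .w, .o, .w, .o],
  [.v, .w, .o, .w, .w, .w],
  [.z, .z, .v, .o, .w, .v],
  [.z, .z, .v, .o, .v, .w],
  [.z, .z, .z, .z, .o, .v]]

/-- The inverse of `m7 - 1`. -/
def d7 : List (List F4) := [[.w, .z, .v, .v, .o, .v],
  [.z, .o, .o, .z, .v, .o],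
  [.z, .z, .z, .w, .z, .v],
  [.w, .v, .w, .o, .o, .v],
  [.v, .o, .v, .z, .z, .z],
  [.w, .v, .w, .z, .z, .v]]

/-- A word of order 13. -/
def w13 : List Nat := [4, 5, 0, 2, 1, 2, 3]

/-- Its matrix. -/
def m13 : List (List F4) := [[.o, .v, .v, .w, .w, .z],
  [.o, .z, .v, .v, .v, .o],
  [.z, .o, .w, .o, .o, .o],
  [.z, .z, .w, .z, .v, .o],
  [.z, .w, .v, .v, .z, .z],
  [.v, .z, .o, .w, .o, .o]]

/-- The inverse of `m13 - 1`. -/
def d13 : List (List F4) := [[.o, .v, .o, .w, .v, .v],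
  [.w, .w, .o, .v, .w, .v],
  [.w, .o, .o, .z, .v, .w],
  [.v, .v, .v, .z, .o, .o],
  [.z, .w, .v, .o, .v, .v],
  [.z, .z, .v, .w, .w, .z]]

end Cfsg.Agent.PrimeGraphG24
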