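import Cfsg.Agent.Coset.G24.Simple
import Cfsg.Agent.Coset.G24.MatAction
import Cfsg.Agent.PrimeGraphG24.Data

/-! The six-dimensional representation of G2(4) and the fixed-point-free elements of orders 7 and 13. -/

set_option autoImplicit false
set_option maxRecDepth 100000
set_option Elab.async false

namespace Cfsg.Agent.PrimeGraphG24

open CfsgLib.Coset CfsgLib.Coset.G24 Matrix

/-- The coordinate numbering. -/
abbrev e6 : Fin 6 ≃ Fin 6 := Equiv.refl _

/-- The matrix with the listed rows. -/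
def ofRows6 (rows : List (List F4)) : Matrix (Fin 6) (Fin 6) F4 :=
  Matrix.of fun i j => (rows.getD i []).getD j 0

/-- A generator as a matrix. -/
def gMat (l : Nat) : Matrix (Fin 6) (Fin 6) F4 := ofRows6 (gens6.getD l [])

theorem gMat_sq : ∀ l < 6, gMat l * gMat l = 1 := by decide +kernel

/-- The generators as units. -/
noncomputable def L6 : List (GL (Fin 6) F4) :=
  List.ofFn fun l : Fin 6 => ⟨gMat l, gMat l, gMat_sq l l.isLt, gMat_sq l l.isLt⟩

theorem len_L6 : L6.length = 6 := by simp [L6]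

theorem rows_gens : ∀ l < 6, gens6.getD l [] = rowsOf e6 (gMat l) := by decide +kernel

theorem rows_L6 (l : Nat) (hl : l < L6.length) :
    gens6.getD l [] = rowsOf e6 (fl L6 l : GL (Fin 6) F4).val := by
  rw [len_L6] at hl
  rw [rows_gens l hl]
  congr 1
  interval_cases l <;> rfl

theorem rels_check6 : rels.all (fun w =>
    checkCols gens6 w 6 (rowsOf e6 (1 : Matrix (Fin 6) (Fin 6) F4))) = true := by
  decide +kernel

theorem img_rels6 : ∀ w ∈ rels, ev L6 w = 1 := fun w hw =>
  Units.ext (ev_eq_of_checkCols e6 rows_L6 (fun l hl => len_L6.symm ▸ rels_letters6 w hw l hl) 1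
    (List.all_eq_true.mp rels_check6 w hw))
where
  rels_letters6 : ∀ w ∈ rels, ∀ l ∈ w, l < 6 := by decide +kernel

/-- The representation. -/
noncomputable def ψ : P →* GL (Fin 6) F4 := numHom len_L6 img_rels6

theorem ev_word (w : List Nat) (hw : ∀ l ∈ w, l < 6) (M : List (List F4))
    (hM : rowsOf e6 (ofRows6 M) = M) (h : checkCols gens6 w 6 M = true) :
    (ψ (ev Lp w)).val = ofRows6 M := by
  rw [ψ, numHom_ev]
  exact ev_eq_of_checkCols e6 rows_L6 (fun l hl => len_L6.symm ▸ hw l hl) _ (by rw [hM]; exact h)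

theorem val6 : (ψ (ev Lp w6)).val = ofRows6 m6 :=
  ev_word _ (by decide +kernel) _ (by decide +kernel) (by decide +kernel)

theorem val10 : (ψ (ev Lp w10)).val = ofRows6 m10 :=
  ev_word _ (by decide +kernel) _ (by decide +kernel) (by decide +kernel)

theorem val7 : (ψ (ev Lp w7)).val = ofRows6 m7 :=
  ev_word _ (by decide +kernel) _ (by decide +kernel) (by decide +kernel)

theorem val13 : (ψ (ev Lp w13)).val = ofRows6 m13 :=
  ev_word _ (by decide +kernel) _ (by decide +kernel) (by decide +kernel)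

theorem ψ_injective : Function.Injective ψ := by
  haveI := isSimple
  rcases (ψ.normal_ker).eq_bot_or_eq_top with h | h
  · exact (MonoidHom.ker_eq_bot_iff ψ).mp h
  · exfalso
    have h1 : ψ (ev Lp w7) = 1 := MonoidHom.mem_ker.mp (h ▸ Subgroup.mem_top _)
    have h2 := val7
    rw [h1, Units.val_one] at h2
    exact absurd h2 (by decide +kernel)

theorem pow_val {g : P} {M : Matrix (Fin 6) (Fin 6) F4} (h : (ψ g).val = M) (k : ℕ) :
    (g ^ k = 1) ↔ M ^ k = 1 := by
  rw [← ψ_injective.eq_iff, map_pow, map_one, Units.ext_iff, Units.val_pow_eq_pow_val, h,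
    Units.val_one]

theorem orderOf_six : orderOf (ev Lp w6) = 6 := by
  rw [orderOf_eq_iff (by norm_num)]
  refine ⟨(pow_val val6 6).2 (by decide +kernel), fun m hm hm0 => ?_⟩
  rw [Ne, pow_val val6]
  interval_cases m <;> decide +kernel

theorem orderOf_ten : orderOf (ev Lp w10) = 10 := by
  rw [orderOf_eq_iff (by norm_num)]
  refine ⟨(pow_val val10 10).2 (by decide +kernel), fun m hm hm0 => ?_⟩
  rw [Ne, pow_val val10]
  interval_cases m <;> decide +kernel

/-- A group element acts without fixed points if some element with the same span does. -/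
theorem fixed_zero {g u : P} {M D : Matrix (Fin 6) (Fin 6) F4} (hu : (ψ u).val = M)
    (hD : D * (M - 1) = 1) {x : P} (hx : x * g * x⁻¹ ∈ Subgroup.zpowers u)
    (hg : u ∈ Subgroup.zpowers (x * g * x⁻¹)) {v : Fin 6 → F4} (hv : (ψ g).val *ᵥ v = v) :
    v = 0 := by
  set y := x * g * x⁻¹ with hy
  set w := (ψ x).val *ᵥ v with hw
  have h1 : (ψ y).val *ᵥ w = w := by
    rw [hy, hw, Matrix.mulVec_mulVec, ← Units.val_mul, ← map_mul, show x * g * x⁻¹ * x = x * g by group,
      map_mul, Units.val_mul, ← Matrix.mulVec_mulVec, hv]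
  let S : Subgroup P :=
    { carrier := {z | (ψ z).val *ᵥ w = w}
      one_mem' := by simp
      mul_mem' := fun {a b} ha hb => by
        simp only [Set.mem_setOf_eq] at ha hb ⊢
        rw [map_mul, Units.val_mul, ← Matrix.mulVec_mulVec, hb, ha]
      inv_mem' := fun {a} ha => by
        simp only [Set.mem_setOf_eq] at ha ⊢
        conv_lhs => rw [← ha]
        rw [Matrix.mulVec_mulVec, ← Units.val_mul, ← map_mul, inv_mul_cancel, map_one,
          Units.val_one, Matrix.one_mulVec] }
  have h3 : u ∈ S := (Subgroup.zpowers_le.2 (show y ∈ S from h1)) hg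
  have h4 : (M - 1) *ᵥ w = 0 := by
    rw [Matrix.sub_mulVec, Matrix.one_mulVec, ← hu]
    exact sub_eq_zero.2 h3
  have h5 : w = 0 := by
    rw [← Matrix.one_mulVec w, ← hD, ← Matrix.mulVec_mulVec, h4, Matrix.mulVec_zero]
  have h6 : v = (ψ x⁻¹).val *ᵥ w := by
    rw [hw, Matrix.mulVec_mulVec, ← Units.val_mul, ← map_mul, inv_mul_cancel, map_one,
      Units.val_one, Matrix.one_mulVec]
  rw [h6, h5, Matrix.mulVec_zero]

theorem fpf_prime {q : ℕ} [Fact q.Prime] (hq : ∀ P' : Sylow q P, Nat.card P' = q) {u : P}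
    (hu1 : orderOf u = q) {M D : Matrix (Fin 6) (Fin 6) F4} (hu : (ψ u).val = M)
    (hD : D * (M - 1) = 1) {g : P} (hg : orderOf g = q) {v : Fin 6 → F4}
    (hv : (ψ g).val *ᵥ v = v) : v = 0 := by
  haveI := card_le.1
  have hsyl : ∀ a : P, orderOf a = q → ∃ P' : Sylow q P, (P' : Subgroup P) = Subgroup.zpowers a := by
    intro a ha
    obtain ⟨P', hP'⟩ := (IsPGroup.of_card (p := q) (n := 1)
      (show Nat.card (Subgroup.zpowers a) = q ^ 1 by rw [Nat.card_zpowers, ha, pow_one])).exists_le_sylow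
    refine ⟨P', (Subgroup.eq_of_le_of_card_ge hP' ?_).symm⟩
    rw [Nat.card_zpowers, ha]
    exact (hq P').le
  obtain ⟨Pg, hPg⟩ := hsyl g hg
  obtain ⟨Pu, hPu⟩ := hsyl u hu1
  obtain ⟨x, hx⟩ := MulAction.exists_smul_eq P Pg Pu
  have hyu : x * g * x⁻¹ ∈ Subgroup.zpowers u := by
    rw [← hPu, ← hx, Sylow.coe_subgroup_smul, hPg]
    exact ⟨g, Subgroup.mem_zpowers g, rfl⟩
  refine fixed_zero hu hD hyu ?_ hv
  have : Subgroup.zpowers (x * g * x⁻¹) = Subgroup.zpowers u := by
    refine Subgroup.eq_of_le_of_card_ge (Subgroup.zpowers_le.2 hyu) (le_of_eq ?_)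
    rw [Nat.card_zpowers, Nat.card_zpowers, hu1, ← hg]
    exact (orderOf_injective (MulAut.conj x).toMonoidHom (MulAut.conj x).injective g).symm
  rw [this]
  exact Subgroup.mem_zpowers u

theorem sylow_card {q : ℕ} [Fact q.Prime] (h : Nat.factorization 251596800 q = 1) (P' : Sylow q P) :
    Nat.card P' = q := by
  haveI := card_le.1
  rw [Sylow.card_eq_multiplicity, card_and_injective.1, h, pow_one]

theorem orderOf_prime_val {g : P} {M : Matrix (Fin 6) (Fin 6) F4} (h : (ψ g).val = M) {q : ℕ}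
    [Fact q.Prime] (h1 : M ^ q = 1) (h2 : M ≠ 1) : orderOf g = q :=
  orderOf_eq_prime ((pow_val h q).2 h1) fun e => h2 (by rw [← h, e, map_one, Units.val_one])

theorem fpf_seven {g : P} (hg : orderOf g = 7) {v : Fin 6 → F4} (hv : (ψ g).val *ᵥ v = v) :
    v = 0 := by
  haveI : Fact (Nat.Prime 7) := ⟨by norm_num⟩
  refine fpf_prime (fun P' => sylow_card ?_ P')
    (orderOf_prime_val val7 (by decide +kernel) (by decide +kernel)) val7 (D := ofRows6 d7)
    (by decide +kernel) hg hv
  rw [show (251596800 : ℕ) = 7 * 35942400 by norm_num,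
    Nat.factorization_mul (by norm_num) (by norm_num), Finsupp.add_apply,
    Nat.Prime.factorization_self (by norm_num),
    Nat.factorization_eq_zero_of_not_dvd (by norm_num)]

theorem fpf_thirteen {g : P} (hg : orderOf g = 13) {v : Fin 6 → F4} (hv : (ψ g).val *ᵥ v = v) :
    v = 0 := by
  haveI : Fact (Nat.Prime 13) := ⟨by norm_num⟩
  refine fpf_prime (fun P' => sylow_card ?_ P')
    (orderOf_prime_val val13 (by decide +kernel) (by decide +kernel)) val13 (D := ofRows6 d13)
    (by decide +kernel) hg hv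
  rw [show (251596800 : ℕ) = 13 * 19353600 by norm_num,
    Nat.factorization_mul (by norm_num) (by norm_num), Finsupp.add_apply,
    Nat.Prime.factorization_self (by norm_num),
    Nat.factorization_eq_zero_of_not_dvd (by norm_num)]

end Cfsg.Agent.PrimeGraphG24
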